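import Groth.Agent.KRRLam.AdamsRR

/-!
# Adams Riemann–Roch for a λ-ring generated by a nilpotent `ℓ - 1`
-/

set_option autoImplicit false
set_option backward.isDefEq.respectTransparency false
set_option backward.isDefEq.respectTransparency.types false
set_option linter.style.haveILetI false
set_option linter.unusedSectionVars false
set_option maxHeartbeats 1000000

open Finset TensorProduct

noncomputable section

namespace Groth.Agent.AdamsPrLib

open LambdaRing LamR

universe v w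

lemma lam_one_pos' {K : Type v} [CommRing K] [LambdaOps K] (P : PosStructure K) :
    ∀ j : ℕ, 2 ≤ j → LambdaOps.lam j (1 : K) = 0 := LamR.lam_one_pos P

lemma sigma_natCast {K : Type v} [CommRing K] [LambdaOps K] (P : PosStructure K) (n i : ℕ) :
    KRR.sigma i ((n + 1 : ℕ) : K) = ((n + i).choose n : K) := by
  have h1 : PowerSeries.rescale (-1 : K) (lamSeries ((n + 1 : ℕ) : K)) = (1 - PowerSeries.X) ^ (n + 1) := by
    rw [show (1 - PowerSeries.X : PowerSeries K) ^ (n + 1) =
      PowerSeries.rescale (-1 : K) (((1 + Polynomial.X : Polynomial K) ^ (n + 1) : Polynomial K) : PowerSeries K) by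
        push_cast
        rw [map_pow, map_add, map_one, PowerSeries.rescale_neg_one_X, ← sub_eq_add_neg]]
    congr 1
    ext k
    rw [coeff_lamSeries, Polynomial.coeff_coe, Polynomial.coeff_one_add_X_pow, LamR.lam_natCast (lam_one_pos' P)]
  have h2 : KRR.sigmaSeries ((n + 1 : ℕ) : K) = (PowerSeries.invOneSubPow K (n + 1) : PowerSeries K) := by
    have h := KRRLam.rescale_mul_sigmaSeries ((n + 1 : ℕ) : K)
    rw [h1, ← PowerSeries.invOneSubPow_inv_eq_one_sub_pow] at h
    calc KRR.sigmaSeries ((n + 1 : ℕ) : K)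
        = ((PowerSeries.invOneSubPow K (n + 1)).val * (PowerSeries.invOneSubPow K (n + 1)).inv) *
            KRR.sigmaSeries ((n + 1 : ℕ) : K) := by rw [(PowerSeries.invOneSubPow K (n + 1)).val_inv, one_mul]
      _ = _ := by rw [mul_assoc, h, mul_one]
  rw [KRR.sigma, h2, PowerSeries.invOneSubPow_val_succ_eq_mk_add_choose, PowerSeries.coeff_mk]

lemma eval₂_extPoly {K : Type v} [CommRing K] [LambdaOps K] (P : PosStructure K) (n : ℕ) {R : Type w} [CommRing R]
    (f : K →+* R) (t : R) :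
    Polynomial.eval₂ f t (KRR.extPoly P ((n + 1 : ℕ) : K)) = (t - 1) ^ (n + 1) := by
  rw [KRR.extPoly, map_natCast, Int.toNat_natCast, Polynomial.eval₂_finsetSum, sub_eq_add_neg, add_pow,
    ← Finset.sum_range_reflect]
  refine sum_congr rfl fun i hi => ?_
  rw [mem_range] at hi
  rw [Polynomial.eval₂_mul, Polynomial.eval₂_C, Polynomial.eval₂_pow, Polynomial.eval₂_X,
    LamR.lam_natCast (lam_one_pos' P), map_mul, map_pow, map_neg, map_one, map_natCast,
    show n + 1 + 1 - 1 - i = n + 1 - i by omega, show n + 1 - (n + 1 - i) = i by omega, Nat.choose_symm (by omega)]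
  ring

/-- the sums `Σ cᵢ xⁱ` -/
def comb {K R : Type*} [CommRing K] [CommRing R] (q : K →+* R) (x : R) (n : ℕ) : (Fin (n + 1) → K) →+ R where
  toFun c := ∑ i, q (c i) * x ^ (i : ℕ)
  map_zero' := by simp
  map_add' c d := by simp [add_mul, sum_add_distrib]

lemma single_mem {K R : Type*} [CommRing K] [CommRing R] (q : K →+* R) (x : R) (n m : ℕ) (h : m < n + 1) (b : K) :
    q b * x ^ m ∈ (comb q x n).range := by
  refine ⟨Pi.single (⟨m, h⟩ : Fin (n + 1)) b, ?_⟩
  show ∑ j : Fin (n + 1), q ((Pi.single (⟨m, h⟩ : Fin (n + 1)) b : Fin (n + 1) → K) j) * x ^ (j : ℕ) = _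
  rw [Finset.sum_eq_single (⟨m, h⟩ : Fin (n + 1))]
  · simp
  · intro j _ hj
    simp [hj]
  · simp

lemma mul_pow_one_add_mem {K R : Type*} [CommRing K] [CommRing R] (q : K →+* R) (x : R) (n : ℕ) (a : K) (i : ℕ)
    (h : i < n + 1 ∨ x ^ (n + 1) = 0) : q a * (1 + x) ^ i ∈ (comb q x n).range := by
  rw [add_comm (1 : R) x, add_pow, Finset.mul_sum]
  refine sum_mem fun m hm => ?_
  rw [mem_range] at hm
  rw [one_pow, mul_one, show q a * (x ^ m * (i.choose m : R)) = q (a * (i.choose m : K)) * x ^ m by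
    rw [map_mul, map_natCast]; ring]
  rcases lt_or_ge m (n + 1) with hlt | hge
  · exact single_mem q x n m hlt _
  · rcases h with h | h
    · omega
    · rw [pow_eq_zero_of_le hge h, mul_zero]
      exact zero_mem _

section Core

variable {KP KY : Type v} [CommRing KP] [CommRing KY] [LambdaOps KP] [LambdaOps KY]
  {PP : PosStructure KP} {PY : PosStructure KY} {q : KY →+* KP} {g : KP →+ KY} {ℓ ℓi : KP} {n : ℕ}
  (hsY : HasSplitting KY PY) (hsP : HasSplitting KP PP) (hq : IsExtension PY PP q)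
  (hℓ : PP.IsLine ℓ) (hℓi : ℓi * ℓ = 1) (hpow : ∀ m : ℕ, g (ℓ ^ m) = ((n + m).choose n : KY))
  (hproj : ∀ (z : KP) (a : KY), g (z * q a) = g z * a)
  (hgen : ∀ z : KP, z ∈ AddSubgroup.closure {w | ∃ (i : ℕ) (a : KY), i ≤ n ∧ w = q a * ℓ ^ i})

include hpow in
lemma push_pow : ∀ (i m : ℕ), g (ℓ ^ m * (ℓ - 1) ^ i) = if i ≤ n then ((n + m).choose (n - i) : KY) else 0 := by
  intro i
  induction i with
  | zero => intro m; simpa using hpow m
  | succ i ih =>
    intro m
    rw [show ℓ ^ m * (ℓ - 1) ^ (i + 1) = ℓ ^ (m + 1) * (ℓ - 1) ^ i - ℓ ^ m * (ℓ - 1) ^ i by ring, map_sub,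
      ih (m + 1), ih m]
    rcases Nat.lt_trichotomy i n with h | h | h
    · obtain ⟨d, rfl⟩ : ∃ d, n = i + 1 + d := ⟨n - (i + 1), by omega⟩
      rw [if_pos h.le, if_pos h.le, if_pos (by omega), show i + 1 + d - i = d + 1 by omega,
        Nat.add_sub_cancel_left, show i + 1 + d + (m + 1) = (i + 1 + d + m) + 1 by omega,
        Nat.choose_succ_succ, Nat.cast_add, add_sub_cancel_right]
    · subst h
      simp
    · rw [if_neg (by omega), if_neg (by omega), if_neg (by omega), sub_zero]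

include hpow in
lemma push_x_pow (i : ℕ) : g ((ℓ - 1) ^ i) = if i ≤ n then (n.choose (n - i) : KY) else 0 := by
  simpa using push_pow hpow i 0

include hpow hproj in
lemma eq_zero_of_pairing (c : Fin (n + 1) → KY) (h : ∀ k : ℕ, g (comb q (ℓ - 1) n c * (ℓ - 1) ^ k) = 0) : c = 0 := by
  have hx := push_x_pow hpow
  funext i
  obtain ⟨i, hi⟩ := i
  induction i using Nat.strong_induction_on with
  | _ i ih =>
    have h' := h (n - i)
    rw [show comb q (ℓ - 1) n c = ∑ j, q (c j) * (ℓ - 1) ^ (j : ℕ) from rfl, sum_mul, map_sum,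
      Finset.sum_eq_single (⟨i, hi⟩ : Fin (n + 1))] at h'
    · rw [show q (c ⟨i, hi⟩) * (ℓ - 1) ^ i * (ℓ - 1) ^ (n - i) = (ℓ - 1) ^ (i + (n - i)) * q (c ⟨i, hi⟩) by
        rw [pow_add]; ring, hproj, hx, if_pos (by omega), show n - (i + (n - i)) = 0 by omega, Nat.choose_zero_right,
        Nat.cast_one, one_mul] at h'
      exact h'
    · intro j _ hj
      have hji : (j : ℕ) ≠ i := fun e => hj (Fin.ext e)
      rw [show q (c j) * (ℓ - 1) ^ (j : ℕ) * (ℓ - 1) ^ (n - i) = (ℓ - 1) ^ ((j : ℕ) + (n - i)) * q (c j) by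
        rw [pow_add]; ring, hproj, hx]
      rcases lt_or_gt_of_ne hji with hlt | hgt
      · rw [show c j = 0 from ih j hlt j.2, mul_zero]
      · rw [if_neg (by omega), zero_mul]
    · simp

include hpow hproj hgen in
lemma exists_comb_and_pow : (ℓ - 1) ^ (n + 1) = 0 ∧ ∀ z : KP, ∃ c, comb q (ℓ - 1) n c = z := by
  have hall : ∀ z : KP, ∃ c, comb q (ℓ - 1) n c = z := by
    intro z
    refine (AddSubgroup.closure_le (comb q (ℓ - 1) n).range).2 ?_ (hgen z)
    rintro _ ⟨i, a, hi, rfl⟩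
    simpa using mul_pow_one_add_mem q (ℓ - 1) n a i (Or.inl (by omega))
  refine ⟨?_, hall⟩
  obtain ⟨c, hc⟩ := hall ((ℓ - 1) ^ (n + 1))
  rw [← hc, show c = 0 from eq_zero_of_pairing hpow hproj c fun k => by
    rw [hc, ← pow_add, push_x_pow hpow, if_neg (by omega)], map_zero]

include hsY hsP hq hℓ hℓi hpow hproj hgen in
/-- Adams Riemann–Roch for the projection. -/
theorem adams_rr_core (hnilY : ∀ a : KY, PY.aug a = 0 → IsNilpotent a) {j : ℕ} (hj : 1 ≤ j) (z : KP)
    (Z : Type) [CommRing Z] [IsLocalization.Away (j : ℤ) Z] :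
    (∃ w : Z ⊗[ℤ] KP,
      w * ((1 : Z) ⊗ₜ[ℤ] KRR.bott PP j (((n + 1 : ℕ) : KP) * ℓi)) = 1) ∧
    ∀ w : Z ⊗[ℤ] KP,
      w * ((1 : Z) ⊗ₜ[ℤ] KRR.bott PP j (((n + 1 : ℕ) : KP) * ℓi)) = 1 →
      (1 : Z) ⊗ₜ[ℤ] adams PY j (g z) =
        LinearMap.lTensor Z g.toIntLinearMap
          ((j : Z ⊗[ℤ] KP) * ((1 : Z) ⊗ₜ[ℤ] adams PP j z) * w) := by
  classical
  obtain ⟨hxn, hall⟩ := exists_comb_and_pow hpow hproj hgen
  set e : KY := ((n + 1 : ℕ) : KY) with he
  have hepos : e ∈ PY.pos := PY.natCast_mem _ (Nat.succ_pos n)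
  have haug : PY.aug e = (n : ℤ) + 1 := by rw [he, map_natCast]; push_cast; rfl
  let Φ : AdjoinRoot (KRR.extPoly PY e) →+* KP := AdjoinRoot.lift q ℓ (by rw [he, eval₂_extPoly, hxn])
  have hΦof : ∀ a, Φ (AdjoinRoot.of _ a) = q a := fun a => AdjoinRoot.lift_of _
  have hΦroot : Φ (AdjoinRoot.root _) = ℓ := AdjoinRoot.lift_root _
  have hrootn : (AdjoinRoot.root (KRR.extPoly PY e) - 1) ^ (n + 1) = 0 := by
    rw [← eval₂_extPoly PY n (AdjoinRoot.of (KRR.extPoly PY e))]
    exact AdjoinRoot.eval₂_root _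
  have hΦcomb : ∀ c, Φ (comb (AdjoinRoot.of (KRR.extPoly PY e)) (AdjoinRoot.root _ - 1) n c) = comb q (ℓ - 1) n c :=
    fun c => by
      show Φ (∑ i : Fin (n + 1), _) = ∑ i : Fin (n + 1), _
      simp only [map_sum, map_mul, map_pow, map_sub, map_one, hΦof, hΦroot]
  have hallA : ∀ y, ∃ c, comb (AdjoinRoot.of (KRR.extPoly PY e)) (AdjoinRoot.root _ - 1) n c = y := by
    intro y
    obtain ⟨p, rfl⟩ := AdjoinRoot.mk_surjective y
    induction p using Polynomial.induction_on' with
    | add p q' hp hq' =>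
      obtain ⟨c, hc⟩ := hp
      obtain ⟨d, hd⟩ := hq'
      exact ⟨c + d, by rw [map_add, map_add, hc, hd]⟩
    | monomial i a =>
      rw [← Polynomial.C_mul_X_pow_eq_monomial, map_mul, map_pow, AdjoinRoot.mk_C, AdjoinRoot.mk_X]
      simpa using mul_pow_one_add_mem (AdjoinRoot.of (KRR.extPoly PY e)) (AdjoinRoot.root _ - 1) n a i (Or.inr hrootn)
  have hinj : Function.Injective Φ := (injective_iff_map_eq_zero _).2 fun y hy => by
    obtain ⟨c, rfl⟩ := hallA y
    rw [hΦcomb] at hy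
    rw [eq_zero_of_pairing hpow hproj c fun k => by rw [hy, zero_mul, map_zero], map_zero]
  have hsurj : Function.Surjective Φ := fun y => by
    obtain ⟨c, rfl⟩ := hall y
    exact ⟨_, hΦcomb c⟩
  let E := RingEquiv.ofBijective Φ ⟨hinj, hsurj⟩
  have hEapp : ∀ y, E y = Φ y := fun _ => rfl
  let inst : LambdaOps (AdjoinRoot (KRR.extPoly PY e)) :=
    { lam := fun i y => E.symm (LambdaOps.lam i (E y))
      lam_zero := fun y => by rw [LambdaOps.lam_zero, map_one]
      lam_one := fun y => by rw [LambdaOps.lam_one, E.symm_apply_apply]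
      lam_add := fun k x y => by simp only [map_add, LambdaOps.lam_add, map_sum, map_mul] }
  letI := inst
  have hlam : ∀ (i : ℕ) y, E (LambdaOps.lam i y) = LambdaOps.lam i (E y) := fun i y => E.apply_symm_apply _
  let Pe : PosStructure (AdjoinRoot (KRR.extPoly PY e)) :=
    { aug := PP.aug.comp E.toRingHom
      aug_surjective := fun m => by
        obtain ⟨a, ha⟩ := PP.aug_surjective m
        exact ⟨E.symm a, by simpa using ha⟩
      pos := E ⁻¹' PP.pos
      add_mem := fun a b ha hb => by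
        show E (a + b) ∈ PP.pos
        rw [map_add]; exact PP.add_mem _ _ ha hb
      mul_mem := fun a b ha hb => by
        show E (a * b) ∈ PP.pos
        rw [map_mul]; exact PP.mul_mem _ _ ha hb
      natCast_mem := fun m hm => by
        show E (m : AdjoinRoot (KRR.extPoly PY e)) ∈ PP.pos
        rw [map_natCast]; exact PP.natCast_mem m hm
      exists_sub := fun y => by
        obtain ⟨a, b, ha, hb, hab⟩ := PP.exists_sub (E y)
        exact ⟨E.symm a, E.symm b, by simpa using ha, by simpa using hb, by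
          rw [← map_sub, ← hab, E.symm_apply_apply]⟩
      aug_pos := fun a ha => PP.aug_pos _ ha
      lam_eq_zero := fun a ha i hi => E.injective (by rw [hlam, map_zero]; exact PP.lam_eq_zero _ ha i hi)
      isUnit_lam := fun a ha => by
        show IsUnit (E.symm (LambdaOps.lam _ (E a)))
        exact (PP.isUnit_lam _ ha).map E.symm }
  have hE : IsExtension Pe PP E.toRingHom :=
    { isLambdaHom := hlam, injective := E.injective, aug_comp := fun _ => rfl, pos_subset := fun _ h => h }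
  have hext : IsExtension PY Pe (AdjoinRoot.of (KRR.extPoly PY e)) :=
    { isLambdaHom := fun i a => E.injective (by rw [hlam, hEapp, hEapp, hΦof, hΦof, hq.isLambdaHom])
      injective := fun a b h => hq.injective (by rw [← hΦof, ← hΦof, h])
      aug_comp := fun a => by
        show PP.aug (Φ (AdjoinRoot.of _ a)) = _
        rw [hΦof, hq.aug_comp]
      pos_subset := fun a ha => by
        show Φ (AdjoinRoot.of _ a) ∈ PP.pos
        rw [hΦof]; exact hq.pos_subset a ha }
  have hline : Pe.IsLine (AdjoinRoot.root (KRR.extPoly PY e)) := by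
    refine ⟨?_, ?_⟩
    · show Φ (AdjoinRoot.root (KRR.extPoly PY e)) ∈ PP.pos
      rw [hΦroot]; exact hℓ.1
    · show PP.aug (Φ (AdjoinRoot.root (KRR.extPoly PY e))) = 1
      rw [hΦroot]; exact hℓ.2
  have hsplit : HasSplitting (AdjoinRoot (KRR.extPoly PY e)) Pe := by
    obtain ⟨C, hC, hs⟩ := hsP
    refine ⟨insert ⟨AdjoinRoot (KRR.extPoly PY e), Pe⟩ C, Set.mem_insert _ _, fun L hL a ha => ?_⟩
    rcases Set.mem_insert_iff.1 hL with rfl | hL
    · obtain ⟨L', hL', f, hf, s, hs1, hs2⟩ := hs _ hC (E a) ha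
      exact ⟨L', Set.mem_insert_of_mem _ hL', f.comp E.toRingHom, LamR.isExtension_comp hE hf, s, hs1, hs2⟩
    · obtain ⟨L', hL', f, hf, s, hs1, hs2⟩ := hs L hL a ha
      exact ⟨L', Set.mem_insert_of_mem _ hL', f, hf, s, hs1, hs2⟩
  have hnil : ∀ y, Pe.aug y = 0 → IsNilpotent y := fun y hy => by
    refine (IsNilpotent.map_iff (f := E.toRingHom) E.injective).1 ?_
    obtain ⟨c, hc⟩ := hall (E y)
    show IsNilpotent (E y)
    rw [← hc]
    have hx : IsNilpotent (ℓ - 1) := ⟨n + 1, hxn⟩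
    have h0 : PY.aug (c 0) = 0 := by
      have h' : PP.aug (E y) = 0 := hy
      rw [← hc] at h'
      change PP.aug (∑ i : Fin (n + 1), q (c i) * (ℓ - 1) ^ (i : ℕ)) = 0 at h'
      simpa [map_sum, Fin.sum_univ_succ, hℓ.2, hq.aug_comp] using h'
    show IsNilpotent (∑ i : Fin (n + 1), q (c i) * (ℓ - 1) ^ (i : ℕ))
    refine isNilpotent_sum fun i _ => ?_
    by_cases hi : i = 0
    · subst hi
      simpa using (hnilY _ h0).map q
    · exact (Commute.all _ _).isNilpotent_mul_left (hx.pow_of_pos fun h => hi (Fin.ext h))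
  let linv := E.symm ℓi
  have hlinv : linv * AdjoinRoot.root (KRR.extPoly PY e) = 1 :=
    E.injective (by rw [map_mul, map_one, E.apply_symm_apply, hEapp, hΦroot, hℓi])
  let f : AdjoinRoot (KRR.extPoly PY e) →ₗ[KY] KY :=
    { toFun := fun y => g (E y)
      map_add' := fun a b => by rw [map_add, map_add]
      map_smul' := fun a b => by
        rw [Algebra.smul_def, AdjoinRoot.algebraMap_eq, map_mul, hEapp (AdjoinRoot.of _ a), hΦof, mul_comm, hproj,
          RingHom.id_apply, smul_eq_mul, mul_comm] }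
  have hf : ∀ i : ℕ, i ≤ n → f (AdjoinRoot.root (KRR.extPoly PY e) ^ i) = KRR.sigma i e := fun i _ => by
    show g (E _) = _
    rw [map_pow, hEapp, hΦroot, hpow, he, sigma_natCast PY]
  have hbott : E (KRR.bott Pe j (AdjoinRoot.of (KRR.extPoly PY e) e * linv)) = KRR.bott PP j (((n + 1 : ℕ) : KP) * ℓi) := by
    have h1 : E (AdjoinRoot.of (KRR.extPoly PY e) e * linv) = ((n + 1 : ℕ) : KP) * ℓi := by
      rw [map_mul, E.apply_symm_apply, hEapp, hΦof, he, map_natCast]
    rw [← h1]
    unfold KRR.bott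
    refine (KRRLam.ringHom_aeval_fin E.toRingHom _ _).trans ?_
    simp only [RingEquiv.toRingHom_eq_coe, RingEquiv.coe_toRingHom, hlam]
    rfl
  obtain ⟨hw0, hrr⟩ := @KRRLam.adams_rr KY _ _ PY hsY e hepos n haug inst Pe hext hline hsplit hnil linv hlinv f hf j hj
    Z _ ‹_›
  let T : Z ⊗[ℤ] AdjoinRoot (KRR.extPoly PY e) →ₐ[ℤ] Z ⊗[ℤ] KP :=
    Algebra.TensorProduct.map (AlgHom.id ℤ _) E.toRingHom.toIntAlgHom
  let T' : Z ⊗[ℤ] KP →ₐ[ℤ] Z ⊗[ℤ] AdjoinRoot (KRR.extPoly PY e) :=
    Algebra.TensorProduct.map (AlgHom.id ℤ _) E.symm.toRingHom.toIntAlgHom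
  have hTt : ∀ a b, T (a ⊗ₜ[ℤ] b) = a ⊗ₜ[ℤ] E b := fun a b => Algebra.TensorProduct.map_tmul _ _ _ _
  have hT't : ∀ a b, T' (a ⊗ₜ[ℤ] b) = a ⊗ₜ[ℤ] E.symm b := fun a b => Algebra.TensorProduct.map_tmul _ _ _ _
  refine ⟨?_, fun w hw => ?_⟩
  · obtain ⟨w, hw⟩ := hw0
    refine ⟨T w, ?_⟩
    have h := congrArg T hw
    rw [map_mul, map_one, hTt, hbott] at h
    exact h
  · have hw' : T' w * ((1 : Z) ⊗ₜ[ℤ]
        KRR.bott Pe j (AdjoinRoot.of (KRR.extPoly PY e) e * linv)) = 1 := by
      have h := congrArg T' hw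
      rw [map_mul, map_one, hT't, ← hbott, E.symm_apply_apply] at h
      exact h
    have h := hrr (T' w) hw' (E.symm z)
    have hfz : f (E.symm z) = g z := congrArg g (E.apply_symm_apply z)
    have hlT : ∀ y, LinearMap.lTensor Z f.toAddMonoidHom.toIntLinearMap (T' y) =
        LinearMap.lTensor Z g.toIntLinearMap y := fun y => by
      induction y using TensorProduct.induction_on with
      | zero => simp
      | add a b ha hb => rw [map_add, map_add, map_add, ha, hb]
      | tmul a b =>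
        rw [hT't, LinearMap.lTensor_tmul, LinearMap.lTensor_tmul]
        show a ⊗ₜ[ℤ] g (E (E.symm b)) = _
        rw [E.apply_symm_apply]
        rfl
    rw [hfz] at h
    rw [h, ← hlT, map_mul T', map_mul T', map_natCast T', hT't]
    congr 1
    rw [mul_right_comm]
    congr 2
    apply congrArg
    apply E.injective
    rw [E.apply_symm_apply, show E (adams Pe j (E.symm z)) = adams PP j (E (E.symm z)) from LamR.map_adams hE j _,
      E.apply_symm_apply]

end Core

end Groth.Agent.AdamsPrLib
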