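import Groth.Agent.AdamsPrLib.Algebra
import Groth.Agent.KVbLib.ProjFilt
import Groth.Agent.KVbLib.ModelIso
import Groth.Agent.PBundleLib.Split
import Groth.Agent.KPushLib.Main
import Groth.Agent.KRRAmple.Nilp
import Groth.Agent.S3785
import Groth.Agent.S3759
import Groth.Agent.S10962

/-!
# Adams Riemann–Roch for the projection from projective space
-/

set_option autoImplicit false
set_option backward.isDefEq.respectTransparency false
set_option backward.isDefEq.respectTransparency.types false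
set_option linter.style.haveILetI false
set_option linter.unusedSectionVars false
set_option maxHeartbeats 1000000

universe v w u

open CategoryTheory CategoryTheory.Limits AlgebraicGeometry LambdaRing TensorProduct
open Groth.Agent.DCohLib Groth.Agent.DCohMore.TwistOver
attribute [local instance] HasDerivedCategory.standard

noncomputable section

namespace Groth.Agent.AdamsPrLib

/-- `O(1)` is ample on projective space over an affine scheme. -/
theorem isAmple_twistOver (n : ℕ) (S : Scheme.{u}) [IsAffine S] : CohB1.IsAmple (Twist.twistOver n S 1) := by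
  have h : CohB1.IsAmple (Twist.twistProjSpace n (ULift.{u} ℤ) 1) := by
    have hcov : ⨆ a, Proj.basicOpen (CohB1.polyGrading n (ULift.{u} ℤ)) (MvPolynomial.X a) = ⊤ :=
      Groth.Agent.ProjTwistLib.iSup_basicOpen_of_adjoin (e := fun _ => 1) Groth.Agent.ProjMap.X_mem
        MvPolynomial.adjoin_range_X
    haveI : CompactSpace (Proj (CohB1.polyGrading n (ULift.{u} ℤ))) :=
      Groth.Agent.ProjTwistLib.compactSpace_of_cover (e := fun _ => 1) Groth.Agent.ProjMap.X_mem (fun _ => one_pos) hcov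
    refine Groth.Agent.ProjTwistLib.isAmple_twist (d := 1) one_pos fun x => ?_
    obtain ⟨a, ha⟩ := Groth.Agent.ProjTwistLib.exists_mem_of_cover hcov x
    have := (Groth.Agent.ProjTwistLib.hasUnit_of_mem
      (⟨_, Groth.Agent.ProjMap.X_mem a⟩ : CohB1.polyGrading n (ULift.{u} ℤ) 1) ha).zmul (1 : ℤ)
    simpa using this
  haveI : IsAffineHom (pullback.fst (CohB1.ProjSpace.toSpec n (ULift.{u} ℤ)) (specULiftZIsTerminal.from S)) :=
    MorphismProperty.pullback_fst _ _ inferInstance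
  exact AmpleLib.isAmple_pullback _ h

/-- A Noetherian scheme quasi-projective over an affine scheme has an ample module. -/
theorem exists_ample {S Y : Scheme.{u}} [IsAffine S] [IsNoetherian Y] {qY : Y ⟶ S} (hq : KRR.IsQProjOver qY) :
    ∃ L : Y.Modules, CohB1.IsAmple L := by
  obtain ⟨m, i, hi, -⟩ := hq
  exact ⟨_, AmpleLib.isAmple_pullback_of_isInducing i i.isEmbedding.isInducing (isAmple_twistOver m S)⟩

/-- Projective space over a connected scheme is connected. -/
theorem connectedSpace_PY (n : ℕ) (Y : Scheme.{u}) [ConnectedSpace Y] : ConnectedSpace ↥(KRR.PY n Y) := by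
  let f := (KRR.pr n Y).app ⊤
  haveI : PreconnectedSpace ↥(KRR.PY n Y) := by
    refine (S4495.result (KRR.PY n Y).toLocallyRingedSpace).2 fun e he => ?_
    have hb := PBundleLib.bijective_pr_app (r := n) (S := Y) ⊤
    obtain ⟨a, ha⟩ := hb.2 e
    have ha' : IsIdempotentElem a := hb.1 ((map_mul f.hom a a).trans
      ((congrArg₂ (· * ·) ha ha).trans (he.trans ha.symm)))
    rcases (S4495.result Y.toLocallyRingedSpace).1 (‹ConnectedSpace Y›).toPreconnectedSpace a ha' with h | h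
    · exact Or.inl (ha.symm.trans (by rw [h]; exact map_zero f.hom))
    · exact Or.inr (ha.symm.trans (by rw [h]; exact map_one f.hom))
  obtain ⟨s, -⟩ := GenSeesawLib.exists_section (r := n) (S := Y)
  exact { toNonempty := ⟨s (Classical.arbitrary Y)⟩ }

section Models

variable {n : ℕ} {Y : Scheme.{u}} [IsNoetherian Y] [ConnectedSpace Y]
  {KP : Type v} [CommRing KP] [LambdaOps KP] {PP : PosStructure KP} {φP : SGA6.Kvb (KRR.PY n Y) →+ KP}
  {KY : Type v} [CommRing KY] [LambdaOps KY] {PY : PosStructure KY} {φY : SGA6.Kvb Y →+ KY}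
  {g : KP →+ KY}
  (hKP : KRR.IsModel (KRR.PY n Y) KP PP φP) (hKY : KRR.IsModel Y KY PY φY) (hg : KRR.IsPushPr n Y φP φY g)

include hKP hKY in
theorem arg_eq {q : KY →+ KP} (hq : KRR.IsPull (KRR.pr n Y) φY φP q) :
    φP (KRR.cl (KRR.PY n Y) (KRR.twF n Y (-1) ((Scheme.Modules.pullback (KRR.pr n Y)).obj (FlatMod.freeMod Y (n + 1))))) =
      ((n + 1 : ℕ) : KP) * φP (KRR.cl (KRR.PY n Y) (O n Y (-1))) := by
  have hF : FlatMod.IsFinLocFree (FlatMod.freeMod Y (n + 1)) :=
    KVb.isFinLocFree_of_rank (KRRAmple.isFinLocFreeOfRank_freeMod (n + 1))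
  refine Eq.trans (hKP.map_mul _ _ (isFinLocFree_O n Y (-1)) (PullbackMod.isFinLocFree_pullback _ _ hF)).symm ?_
  rw [← hq _ hF, KRRAmple.map_freeMod hKY, mul_comm]
  exact congrArg (· * _) (map_natCast (KVb.pullRing hKP hKY hq) (n + 1))

include hKP hKY hg in
theorem adams_rr_models {L : Y.Modules} (hL : CohB1.IsAmple L) (hsY : HasSplitting KY PY) (hsP : HasSplitting KP PP)
    {j : ℕ} (hj : 1 ≤ j) (z : KP) (Z : Type) [CommRing Z] [IsLocalization.Away (j : ℤ) Z] :
    (∃ w : Z ⊗[ℤ] KP, w * ((1 : Z) ⊗ₜ[ℤ] KRR.bott PP j (φP (KRR.cl (KRR.PY n Y)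
      (KRR.twF n Y (-1) ((Scheme.Modules.pullback (KRR.pr n Y)).obj (FlatMod.freeMod Y (n + 1))))))) = 1) ∧
    ∀ w : Z ⊗[ℤ] KP, w * ((1 : Z) ⊗ₜ[ℤ] KRR.bott PP j (φP (KRR.cl (KRR.PY n Y)
      (KRR.twF n Y (-1) ((Scheme.Modules.pullback (KRR.pr n Y)).obj (FlatMod.freeMod Y (n + 1))))))) = 1 →
    (1 : Z) ⊗ₜ[ℤ] adams PY j (g z) =
      LinearMap.lTensor Z g.toIntLinearMap ((j : Z ⊗[ℤ] KP) * ((1 : Z) ⊗ₜ[ℤ] adams PP j z) * w) := by
  obtain ⟨q₀, hq⟩ := KVb.exists_pull (KRR.pr n Y) φP hKY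
  let q := KVb.pullRing hKP hKY hq
  rw [arg_eq hKP hKY hq]
  have hO : ∀ d : ℤ, FlatMod.IsFinLocFreeOfRank 1 (O n Y d) := fun d =>
    CurveLib.isFinLocFreeOfRank_one (AmpleLib.isInvertible_pullback _ (isInvertible_twist d))
  let o : ℤ → KP := fun d => φP (KRR.cl (KRR.PY n Y) (O n Y d))
  have ho0 : o 0 = 1 := by
    obtain ⟨e⟩ := nonempty_zero n Y
    exact (congrArg φP (KVb.cl_iso e)).trans hKP.map_one
  have hoadd : ∀ a b : ℤ, o a * o b = o (a + b) := fun a b => by
    obtain ⟨e⟩ := nonempty_mul n Y (rfl : a + b = a + b)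
    exact (hKP.map_mul _ _ (isFinLocFree_O n Y a) (isFinLocFree_O n Y b)).trans (congrArg φP (KVb.cl_iso e))
  have hℓ : PP.IsLine (o 1) := ⟨(hKP.mem_pos_iff _).2 ⟨1, _, le_rfl, hO 1, rfl⟩, by
    simpa using hKP.aug_cl 1 _ (hO 1)⟩
  have hopow : ∀ i : ℕ, o 1 ^ i = o (i : ℤ) := fun i => by
    induction i with
    | zero => rw [pow_zero, Nat.cast_zero, ho0]
    | succ i ih => rw [pow_succ, ih, hoadd, Nat.cast_succ]
  have hℓi : o (-1) * o 1 = 1 := by rw [hoadd, neg_add_cancel, ho0]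
  have hinjq : Function.Injective q := by
    intro a b hab
    have h : ∀ c : KY, g (q c) = c := fun c => by
      have h1 := Groth.Agent.S3762.result n Y KP PP φP hKP KY PY φY hKY g hg q₀ hq 1 c
      rw [one_mul, ← hKP.map_one, Groth.Agent.S3759.result n Y KP PP φP hKP KY PY φY hKY g hg, one_mul] at h1
      exact h1
    rw [← h a, ← h b, hab]
  have hext : IsExtension PY PP q :=
    { isLambdaHom := KVb.isLambdaHom_pull hKP hKY hq
      injective := hinjq
      aug_comp := fun a => KVb.aug_pull hKP hKY hq a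
      pos_subset := fun a ha => by
        obtain ⟨k, F, hk, hF, rfl⟩ := (hKY.mem_pos_iff a).1 ha
        exact (hKP.mem_pos_iff _).2 ⟨k, _, hk, PBundleLib.isFinLocFreeOfRank_pullback _ hF,
          (hq F (KVb.isFinLocFree_of_rank hF)).symm⟩ }
  refine adams_rr_core hsY hsP hext hℓ hℓi (fun m => ?_) (fun z a => ?_) (fun z => ?_)
    (fun a ha => KRRAmple.isNilpotent_of_aug_eq_zero hL hKY a ha) hj z Z
  · rw [hopow]
    have hT := RegLib.push_twF hg m
    rw [hKY.map_one, zsmul_one, Int.cast_natCast, Nat.choose_symm_add.symm] at hT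
    refine Eq.trans ?_ hT
    congr 1
    have := hKP.map_mul _ _ (isFinLocFree_O n Y (m : ℤ)) KVb.isFinLocFree_one
    rw [hKP.map_one, mul_one] at this
    exact this
  · exact Groth.Agent.S3762.result n Y KP PP φP hKP KY PY φY hKY g hg q₀ hq z a
  · let eP := AddEquiv.ofBijective φP hKP.bijective
    let A : Fin (n + 1) → (SGA6.Kvb Y →+ SGA6.Kvb (KRR.PY n Y)) := fun i =>
      eP.symm.toAddMonoidHom.comp ((AddMonoidHom.mulRight (o ((i : ℕ) : ℤ))).comp (q₀.comp φY))
    have hA : ∀ (i : Fin (n + 1)) (M : Y.Modules), FlatMod.IsFinLocFree M →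
        A i (KRR.cl Y M) = KRR.cl (KRR.PY n Y) (RegLib.pullT n Y ((i : ℕ) : ℤ) M) := by
      intro i M hM
      apply eP.injective
      show eP (eP.symm (q₀ (φY (KRR.cl Y M)) * o _)) = _
      rw [eP.apply_symm_apply, hq M hM, mul_comm]
      exact hKP.map_mul _ _ (isFinLocFree_O n Y _) (PullbackMod.isFinLocFree_pullback _ M hM)
    obtain ⟨w, rfl⟩ := hKP.bijective.2 z
    obtain ⟨c, rfl⟩ := (RegLib.bijective_twists (r := n) (S := Y) A hA).2 w
    show φP (∑ i, A i (c i)) ∈ _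
    rw [map_sum]
    refine sum_mem fun i _ => AddSubgroup.subset_closure ⟨(i : ℕ), φY (c i), Nat.lt_succ_iff.1 i.2, ?_⟩
    rw [hopow]
    show eP (eP.symm _) = _
    rw [eP.apply_symm_apply]
    rfl

end Models

/-- A λ-map compatible with the augmentations commutes with the Adams operations. -/
theorem map_adams' {K : Type v} {L : Type w} [CommRing K] [LambdaOps K] [CommRing L] [LambdaOps L]
    {P : PosStructure K} {Q : PosStructure L} (e : K →+* L) (haug : ∀ x, Q.aug (e x) = P.aug x)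
    (hlam : ∀ (i : ℕ) x, e (LambdaOps.lam i x) = LambdaOps.lam i (e x)) (j : ℕ) (x : K) :
    e (adams P j x) = adams Q j (e x) := by
  have hl : PowerSeries.map e (PowerSeries.rescale (-1 : K) (lamSeries x)) =
      PowerSeries.rescale (-1 : L) (lamSeries (e x)) := by
    ext k
    simp [PowerSeries.coeff_rescale, lamSeries, hlam]
  have hinv : PowerSeries.map e ((PowerSeries.rescale (-1 : K) (lamSeries x)).invOfUnit 1) =
      (PowerSeries.rescale (-1 : L) (lamSeries (e x))).invOfUnit 1 := by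
    have hcK : PowerSeries.constantCoeff (PowerSeries.rescale (-1 : K) (lamSeries x)) = ((1 : Kˣ) : K) := by
      rw [← PowerSeries.coeff_zero_eq_constantCoeff_apply, PowerSeries.coeff_rescale]
      simp [lamSeries, LambdaOps.lam_zero]
    have hcL : PowerSeries.constantCoeff (PowerSeries.rescale (-1 : L) (lamSeries (e x))) = ((1 : Lˣ) : L) := by
      rw [← PowerSeries.coeff_zero_eq_constantCoeff_apply, PowerSeries.coeff_rescale]
      simp [lamSeries, LambdaOps.lam_zero]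
    have h1 := congrArg (PowerSeries.map e) (PowerSeries.mul_invOfUnit _ 1 hcK)
    rw [map_mul, map_one, hl] at h1
    exact left_inv_eq_right_inv ((mul_comm _ _).trans h1) (PowerSeries.mul_invOfUnit _ 1 hcL)
  unfold adams adamsSeries
  rw [← PowerSeries.coeff_map, map_sub, map_mul, map_mul, PowerSeries.map_C, map_intCast, PowerSeries.map_X, hinv, ← hl, haug]
  congr 4
  ext k
  simp [PowerSeries.coeff_derivative]

/-- A λ-map compatible with the augmentations commutes with the Bott classes. -/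
theorem map_bott {K : Type v} {L : Type w} [CommRing K] [LambdaOps K] [CommRing L] [LambdaOps L]
    {P : PosStructure K} {Q : PosStructure L} (e : K →+* L) (haug : ∀ x, Q.aug (e x) = P.aug x)
    (hlam : ∀ (i : ℕ) x, e (LambdaOps.lam i x) = LambdaOps.lam i (e x)) (j : ℕ) (x : K) :
    e (KRR.bott P j x) = KRR.bott Q j (e x) := by
  rw [KRRLam.bott_eq P j x rfl, KRRLam.bott_eq Q j (e x) (by rw [haug] : (Q.aug (e x)).toNat = (P.aug x).toNat),
    KRRLam.ringHom_aeval_fin]
  simp only [hlam]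

/-- Adams Riemann–Roch for the projection, on arbitrary models. -/
theorem adams_rr_projection {n : ℕ} {Y : Scheme.{u}} [IsNoetherian Y] [ConnectedSpace Y]
    {KP : Type v} [CommRing KP] [LambdaOps KP] {PP : PosStructure KP} {φP : SGA6.Kvb (KRR.PY n Y) →+ KP}
    {KY : Type v} [CommRing KY] [LambdaOps KY] {PY : PosStructure KY} {φY : SGA6.Kvb Y →+ KY}
    {g : KP →+ KY} (hKP : KRR.IsModel (KRR.PY n Y) KP PP φP) (hKY : KRR.IsModel Y KY PY φY)
    (hg : KRR.IsPushPr n Y φP φY g) {L : Y.Modules} (hL : CohB1.IsAmple L)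
    {j : ℕ} (hj : 1 ≤ j) (z : KP) (Z : Type) [CommRing Z] [IsLocalization.Away (j : ℤ) Z] :
    (∃ w : Z ⊗[ℤ] KP, w * ((1 : Z) ⊗ₜ[ℤ] KRR.bott PP j (φP (KRR.cl (KRR.PY n Y)
      (KRR.twF n Y (-1) ((Scheme.Modules.pullback (KRR.pr n Y)).obj (FlatMod.freeMod Y (n + 1))))))) = 1) ∧
    ∀ w : Z ⊗[ℤ] KP, w * ((1 : Z) ⊗ₜ[ℤ] KRR.bott PP j (φP (KRR.cl (KRR.PY n Y)
      (KRR.twF n Y (-1) ((Scheme.Modules.pullback (KRR.pr n Y)).obj (FlatMod.freeMod Y (n + 1))))))) = 1 →
    (1 : Z) ⊗ₜ[ℤ] adams PY j (g z) =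
      LinearMap.lTensor Z g.toIntLinearMap ((j : Z ⊗[ℤ] KP) * ((1 : Z) ⊗ₜ[ℤ] adams PP j z) * w) := by
  haveI := KPush.isNoetherian_PY n Y
  haveI := connectedSpace_PY n Y
  have hMY := KVb.isModel (X := Y)
  have hMP := KVb.isModel (X := KRR.PY n Y)
  obtain ⟨eY, heY, haugY, hlamY⟩ := KVb.exists_modelIso hKY hMY
  obtain ⟨eP, heP, haugP, hlamP⟩ := KVb.exists_modelIso hKP hMP
  let g' : KVb.KR (KRR.PY n Y) →+ KVb.KR Y := eY.toAddMonoidHom.comp (g.comp eP.symm.toAddMonoidHom)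
  have hg' : KRR.IsPushPr n Y KVb.toKR KVb.toKR g' := fun F hF hreg => by
    show eY (g (eP.symm (KVb.toKR (KRR.cl _ F)))) = _
    rw [← heP, eP.symm_apply_apply, hg F hF hreg, heY]
  obtain ⟨h1, h2⟩ := adams_rr_models hMP hMY hg' hL (Groth.Agent.S3785.result Y _ _ _ hMY)
    (Groth.Agent.S3785.result (KRR.PY n Y) _ _ _ hMP) hj (eP z) Z
  set c := φP (KRR.cl (KRR.PY n Y)
    (KRR.twF n Y (-1) ((Scheme.Modules.pullback (KRR.pr n Y)).obj (FlatMod.freeMod Y (n + 1))))) with hc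
  have hb : ((1 : Z) ⊗ₜ[ℤ] KRR.bott (KVb.posStr (KRR.PY n Y)) j (KVb.toKR (KRR.cl (KRR.PY n Y)
      (KRR.twF n Y (-1) ((Scheme.Modules.pullback (KRR.pr n Y)).obj (FlatMod.freeMod Y (n + 1))))))) =
      (1 : Z) ⊗ₜ[ℤ] eP (KRR.bott PP j c) := by
    have hbe : eP (KRR.bott PP j c) = KRR.bott (KVb.posStr (KRR.PY n Y)) j (eP c) := map_bott eP.toRingHom haugP hlamP j c
    rw [hbe, hc, heP]
  let T : Z ⊗[ℤ] KP →ₐ[ℤ] Z ⊗[ℤ] KVb.KR (KRR.PY n Y) :=
    Algebra.TensorProduct.map (AlgHom.id ℤ _) eP.toRingHom.toIntAlgHom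
  let T' : Z ⊗[ℤ] KVb.KR (KRR.PY n Y) →ₐ[ℤ] Z ⊗[ℤ] KP :=
    Algebra.TensorProduct.map (AlgHom.id ℤ _) eP.symm.toRingHom.toIntAlgHom
  have hTt : ∀ a b, T (a ⊗ₜ[ℤ] b) = a ⊗ₜ[ℤ] eP b := fun a b => Algebra.TensorProduct.map_tmul _ _ _ _
  have hT't : ∀ a b, T' (a ⊗ₜ[ℤ] b) = a ⊗ₜ[ℤ] eP.symm b := fun a b => Algebra.TensorProduct.map_tmul _ _ _ _
  rw [hb] at h1 h2
  refine ⟨?_, fun w hw => ?_⟩
  · obtain ⟨w, hw⟩ := h1
    refine ⟨T' w, ?_⟩
    have h := congrArg T' hw
    rw [map_mul, map_one, hT't, eP.symm_apply_apply] at h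
    exact h
  · have hw' : T w * ((1 : Z) ⊗ₜ[ℤ] eP (KRR.bott PP j c)) = 1 := by
      have h := congrArg T hw
      rw [map_mul, map_one, hTt] at h
      exact h
    have h := h2 (T w) hw'
    have hgz : g' (eP z) = eY (g z) := by
      show eY (g (eP.symm (eP z))) = _
      rw [eP.symm_apply_apply]
    let LY := LinearMap.lTensor Z eY.symm.toAddMonoidHom.toIntLinearMap
    have hcomm : ∀ y, LY (LinearMap.lTensor Z g'.toIntLinearMap (T y)) = LinearMap.lTensor Z g.toIntLinearMap y := fun y => by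
      induction y using TensorProduct.induction_on with
      | zero => simp
      | add a b ha hb => rw [map_add, map_add, map_add, ha, hb, map_add]
      | tmul a b =>
        rw [hTt, LinearMap.lTensor_tmul, LinearMap.lTensor_tmul]
        show a ⊗ₜ[ℤ] eY.symm (eY (g (eP.symm (eP b)))) = _
        rw [eP.symm_apply_apply, eY.symm_apply_apply]
        rfl
    have h3 := congrArg LY h
    have hay : eY (adams PY j (g z)) = adams (KVb.posStr Y) j (eY (g z)) := map_adams' eY.toRingHom haugY hlamY j _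
    have hap : eP (adams PP j z) = adams (KVb.posStr (KRR.PY n Y)) j (eP z) := map_adams' eP.toRingHom haugP hlamP j _
    rw [hgz, ← hay, ← hap,
      show (j : Z ⊗[ℤ] KVb.KR (KRR.PY n Y)) = T (j : Z ⊗[ℤ] KP) from (map_natCast T j).symm,
      show (1 : Z) ⊗ₜ[ℤ] eP (adams PP j z) = T ((1 : Z) ⊗ₜ[ℤ] adams PP j z) from (hTt _ _).symm,
      ← map_mul T, ← map_mul T, hcomm] at h3
    rw [← h3]
    show _ = (1 : Z) ⊗ₜ[ℤ] eY.symm (eY (adams PY j (g z)))
    rw [eY.symm_apply_apply]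

end Groth.Agent.AdamsPrLib
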